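import Mathlib
import Groth.Agent.S2150
import Groth.Agent.S9657
import Groth.Agent.FieldsMiscLib.Basic

/-!
# Relative separable closedness in rational function fields (the Bertini field lemma)
-/

set_option autoImplicit false
universe u

open Polynomial

namespace FieldBertiniLib

variable {Ω : Type u} [Field Ω]

/-- `a` is a root of a separable polynomial with coefficients in `F`. -/
def Sep (F : Subfield Ω) (a : Ω) : Prop :=
  ∃ p : Polynomial F, p.Separable ∧ p.eval₂ F.subtype a = 0

/-- `F` is separably closed in `E`. -/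
def SC (F E : Subfield Ω) : Prop := ∀ a ∈ E, Sep F a → a ∈ F

/-- `u` is transcendental over `F`. -/
def Tr (F : Subfield Ω) (u : Ω) : Prop := ∀ p : Polynomial F, p.eval₂ F.subtype u = 0 → p = 0

theorem sep_iff {F : Subfield Ω} {a : Ω} : Sep F a ↔ IsSeparable F a := by
  refine ⟨fun ⟨p, hp, h⟩ => hp.of_dvd (minpoly.dvd F a h), fun h => ⟨_, h, minpoly.aeval F a⟩⟩

theorem Sep.map {F F' : Subfield Ω} {a : Ω} (σ : Ω →+* Ω) (h : ∀ x ∈ F, σ x ∈ F') (ha : Sep F a) :
    Sep F' (σ a) := by
  obtain ⟨p, hp, hpa⟩ := ha
  let τ : F →+* F' := (σ.comp F.subtype).codRestrict F' fun x => h x x.2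
  refine ⟨p.map τ, hp.map, ?_⟩
  rw [eval₂_map, show F'.subtype.comp τ = σ.comp F.subtype from rfl, ← hom_eval₂, hpa, map_zero]

theorem Sep.mono {F F' : Subfield Ω} {a : Ω} (h : F ≤ F') (ha : Sep F a) : Sep F' a :=
  ha.map (RingHom.id Ω) fun _ hx => h hx

theorem Tr.map {F F' : Subfield Ω} {u : Ω} (σ : Ω ≃+* Ω) (h : ∀ x ∈ F', σ x ∈ F) (hu : Tr F (σ u)) :
    Tr F' u := fun p hp => by
  let τ : F' →+* F := (σ.toRingHom.comp F'.subtype).codRestrict F fun x => h x x.2
  have h0 : (p.map τ).eval₂ F.subtype (σ u) = 0 := by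
    rw [eval₂_map, show F.subtype.comp τ = σ.toRingHom.comp F'.subtype from rfl,
      show σ u = σ.toRingHom u from rfl, ← hom_eval₂, hp, map_zero]
  exact Polynomial.map_injective τ τ.injective ((hu _ h0).trans (Polynomial.map_zero τ).symm)

theorem SC.adjoinSimple {F E : Subfield Ω} (hFE : F ≤ E) (u : Ω) (hu : Tr E u) (h : SC F E) :
    SC (Subfield.closure ((F : Set Ω) ∪ {u})) (Subfield.closure ((E : Set Ω) ∪ {u})) := by
  let i : F →+* E := Subfield.inclusion hFE
  letI : Algebra F E := i.toAlgebra
  have hi : Function.Injective (mapRingHom i) := Polynomial.map_injective i i.injective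
  have hg : Function.Injective ((algebraMap E[X] (FractionRing E[X])).comp (mapRingHom i)) :=
    (IsFractionRing.injective E[X] (FractionRing E[X])).comp hi
  let j : FractionRing F[X] →+* FractionRing E[X] := IsFractionRing.lift hg
  letI : Algebra (FractionRing F[X]) (FractionRing E[X]) := j.toAlgebra
  have hj : ∀ p : F[X], j (algebraMap F[X] (FractionRing F[X]) p) =
      algebraMap E[X] (FractionRing E[X]) (p.map i) := fun p => IsFractionRing.lift_algebraMap hg p
  have hev : Function.Injective (eval₂RingHom E.subtype u) :=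
    (injective_iff_map_eq_zero _).mpr fun p hp => hu p hp
  let ψ : FractionRing E[X] →+* Ω := IsFractionRing.lift hev
  have hψ : ∀ p : E[X], ψ (algebraMap E[X] (FractionRing E[X]) p) = p.eval₂ E.subtype u :=
    fun p => IsFractionRing.lift_algebraMap hev p
  have hrF : Subfield.closure ((F : Set Ω) ∪ {u}) = (ψ.comp j).fieldRange := by
    refine le_antisymm (Subfield.closure_le.mpr ?_) ?_
    · rintro x (hx | hx)
      · exact ⟨algebraMap F[X] (FractionRing F[X]) (C ⟨x, hx⟩), by simp [hj, hψ, i]; rfl⟩
      · rw [Set.mem_singleton_iff] at hx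
        exact ⟨algebraMap F[X] (FractionRing F[X]) X, by simp [hj, hψ, hx]⟩
    · rintro x ⟨y, rfl⟩
      obtain ⟨p, q, -, rfl⟩ := IsFractionRing.div_surjective (A := F[X]) y
      have key : ∀ p : F[X], (ψ.comp j) (algebraMap F[X] (FractionRing F[X]) p) ∈
          Subfield.closure ((F : Set Ω) ∪ {u}) := by
        intro p
        rw [RingHom.comp_apply, hj, hψ]
        induction p using Polynomial.induction_on' with
        | add p q hp hq => rw [Polynomial.map_add, eval₂_add]; exact add_mem hp hq
        | monomial n c =>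
          rw [map_monomial, eval₂_monomial]
          exact mul_mem (Subfield.subset_closure (Or.inl c.2))
            (pow_mem (Subfield.subset_closure (s := (F : Set Ω) ∪ {u}) (Or.inr (Set.mem_singleton u))) n)
      rw [map_div₀]
      exact div_mem (key p) (key q)
  have hrE : Subfield.closure ((E : Set Ω) ∪ {u}) ≤ ψ.fieldRange := by
    refine Subfield.closure_le.mpr ?_
    rintro x (hx | hx)
    · exact ⟨algebraMap E[X] (FractionRing E[X]) (C ⟨x, hx⟩), by simp [hψ]⟩
    · rw [Set.mem_singleton_iff] at hx
      exact ⟨algebraMap E[X] (FractionRing E[X]) X, by simp [hψ, hx]⟩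
  have hgi : ∀ α : E, IsSeparable F α → α ∈ Set.range (algebraMap F E) := by
    intro α hα
    have h1 : (minpoly F α).eval₂ F.subtype (α : Ω) = 0 := by
      have := congrArg E.subtype (minpoly.aeval F α)
      rw [aeval_def, hom_eval₂, map_zero] at this
      exact this
    exact ⟨⟨α, h α α.2 ⟨minpoly F α, hα, h1⟩⟩, Subtype.ext rfl⟩
  have hgi' := (Groth.Agent.S2150.result (k := FractionRing F[X]) (K := FractionRing E[X])).1
    ((Groth.Agent.S9657.result (k := F) (K := E) (FractionRing F[X]) (FractionRing E[X]) hj).1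
      ((Groth.Agent.S2150.result (k := F) (K := E)).2 hgi))
  intro a ha hsep
  obtain ⟨b, rfl⟩ := hrE ha
  obtain ⟨p, hp, hpa⟩ := hsep
  have hlift : p.map (Subfield.closure ((F : Set Ω) ∪ {u})).subtype ∈ Polynomial.lifts (ψ.comp j) := by
    rw [lifts_iff_coeff_lifts]
    intro n
    rw [coeff_map]
    exact hrF.le (p.coeff n).2
  obtain ⟨q, hq⟩ := hlift
  rw [coe_mapRingHom] at hq
  have hqs : q.Separable := (separable_map (ψ.comp j)).mp (hq ▸ hp.map)
  have hq0 : q.eval₂ j b = 0 := by
    apply ψ.injective
    rw [hom_eval₂, map_zero, ← eval_map, hq, eval_map]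
    exact hpa
  obtain ⟨y, hy⟩ := hgi' b (hqs.of_dvd (minpoly.dvd _ b hq0))
  rw [hrF, ← hy]
  exact ⟨y, rfl⟩

/-- Adjoining an algebraically independent family preserves separable closedness. -/
theorem SC.adjoinFamily {F E : Subfield Ω} (hFE : F ≤ E) (h : SC F E) {n : ℕ} (x : Fin n → Ω)
    (hx : ∀ i : Fin n, Tr (Subfield.closure ((E : Set Ω) ∪ x '' {j | j < i})) (x i)) :
    SC (Subfield.closure ((F : Set Ω) ∪ Set.range x)) (Subfield.closure ((E : Set Ω) ∪ Set.range x)) := by
  have key : ∀ j : ℕ, j ≤ n → SC (Subfield.closure ((F : Set Ω) ∪ x '' {i | (i : ℕ) < j}))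
      (Subfield.closure ((E : Set Ω) ∪ x '' {i | (i : ℕ) < j})) := by
    intro j hj
    induction j with
    | zero => simpa [Subfield.closure_eq] using h
    | succ j ih =>
      have hset : {i : Fin n | (i : ℕ) < j + 1} = {i : Fin n | (i : ℕ) < j} ∪ {⟨j, hj⟩} :=
        Set.ext fun i => by simp [Fin.ext_iff]; omega
      have hcl : ∀ G : Subfield Ω, Subfield.closure ((G : Set Ω) ∪ x '' {i | (i : ℕ) < j + 1}) =
          Subfield.closure ((Subfield.closure ((G : Set Ω) ∪ x '' {i | (i : ℕ) < j}) : Set Ω) ∪
            {x ⟨j, hj⟩}) := fun G => by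
        rw [hset, Set.image_union, Set.image_singleton, ← Set.union_assoc]
        simp only [Subfield.closure_union, Subfield.closure_eq]
      rw [hcl F, hcl E]
      exact (ih (by omega)).adjoinSimple
        (Subfield.closure_mono (Set.union_subset_union_left _ hFE)) _ (hx ⟨j, hj⟩)
  have := key n le_rfl
  rwa [show {i : Fin n | (i : ℕ) < n} = Set.univ from Set.eq_univ_of_forall fun i => i.2,
    Set.image_univ] at this

variable {k : Type u} [Field k] [Algebra k Ω]

open IntermediateField in
/-- If `F` is separably closed in `Ω` and the translates `u + s v` of `u` are conjugate to `u` over `F`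
for infinitely many `s` in `F`, then `F(u)` is separably closed in `Ω`. -/
theorem sc_adjoin_of_translates (hfg : (⊤ : IntermediateField k Ω).FG) (F : IntermediateField k Ω)
    (hF : SC F.toSubfield ⊤) (u v : Ω)
    (hv : Transcendental (adjoin k ((F : Set Ω) ∪ {u})) v)
    (s : ℕ → Ω) (hs : ∀ j, s j ∈ F) (hinj : Function.Injective s) (σ : ℕ → Ω ≃ₐ[k] Ω)
    (hσF : ∀ j, ∀ x ∈ F, σ j x ∈ F) (hσF' : ∀ j, ∀ x ∈ F, (σ j).symm x ∈ F)
    (hσu : ∀ j, σ j u = u + s j * v) (hσv : ∀ j, σ j v = v) (hσs : ∀ j, σ j (s j) = s j) :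
    SC (adjoin k ((F : Set Ω) ∪ {u})).toSubfield ⊤ := by
  let L0 := adjoin k ((F : Set Ω) ∪ {u})
  let Ls : ℕ → IntermediateField k Ω := fun j => adjoin k ((F : Set Ω) ∪ {u + s j * v})
  let L := adjoin k ((F : Set Ω) ∪ {u, v})
  have hFL : (F : Set Ω) ⊆ L := fun x hx => subset_adjoin k _ (Or.inl hx)
  have hvL : v ∈ L := subset_adjoin k _ (Or.inr (Or.inr rfl))
  have huL : u ∈ L := subset_adjoin k _ (Or.inr (Or.inl rfl))
  have hLs : ∀ j, Ls j ≤ L := fun j => adjoin_le_iff.mpr (by
    rintro x (hx | hx)
    · exact hFL hx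
    · rw [Set.mem_singleton_iff.mp hx]
      exact add_mem huL (mul_mem (hFL (hs j)) hvL))
  -- the automorphisms carry `F(u)` to `F(u + s v)` and back
  have hmap : ∀ j, ∀ x ∈ L0, σ j x ∈ Ls j := fun j x hx => by
    have : L0 ≤ (Ls j).comap (σ j : Ω →ₐ[k] Ω) := adjoin_le_iff.mpr (by
      rintro y (hy | hy)
      · exact subset_adjoin k _ (Or.inl (hσF j y hy))
      · rw [Set.mem_singleton_iff.mp hy]
        show σ j u ∈ Ls j
        rw [hσu]
        exact subset_adjoin k _ (Or.inr rfl))
    exact this hx
  have hmap' : ∀ j, ∀ x ∈ Ls j, (σ j).symm x ∈ L0 := fun j x hx => by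
    have : Ls j ≤ L0.comap ((σ j).symm : Ω →ₐ[k] Ω) := adjoin_le_iff.mpr (by
      rintro y (hy | hy)
      · exact subset_adjoin k _ (Or.inl (hσF' j y hy))
      · rw [Set.mem_singleton_iff.mp hy]
        show (σ j).symm (u + s j * v) ∈ L0
        rw [← hσu, AlgEquiv.symm_apply_apply]
        exact subset_adjoin k _ (Or.inr rfl))
    exact this hx
  -- finitely many intermediate fields between `L` and its separable closure
  have hfgL : (⊤ : IntermediateField L Ω).FG := by
    haveI : Algebra.EssFiniteType k Ω := IntermediateField.fg_top_iff.mp hfg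
    haveI : Algebra.EssFiniteType L Ω := Algebra.EssFiniteType.of_comp k L Ω
    exact IntermediateField.fg_top_iff.mpr inferInstance
  let M := separableClosure L Ω
  haveI : FiniteDimensional L (algebraicClosure L Ω) := FieldsMiscLib.algebraicClosure_finite_of_fg hfgL
  have hMA : M ≤ algebraicClosure L Ω := fun x hx =>
    mem_algebraicClosure_iff'.mpr (mem_separableClosure_iff.mp hx).isIntegral
  haveI : FiniteDimensional L M :=
    FiniteDimensional.of_injective (inclusion hMA).toLinearMap (inclusion hMA).injective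
  haveI : Finite (IntermediateField L M) :=
    Field.finite_intermediateField_of_exists_primitive_element L M (Field.exists_primitive_element L M)
  let G : ℕ → IntermediateField L M := fun j => adjoin L {a : M | Sep (Ls j).toSubfield (a : Ω)}
  obtain ⟨i, j, hij, hG⟩ := Finite.exists_ne_map_eq_of_infinite G
  -- `F(u + s_i v)` is separably closed in `Ω`
  have hsc : ∀ a : Ω, Sep (Ls i).toSubfield a → a ∈ Ls i := by
    intro a ha
    let Ej := separableClosure (Ls j) Ω
    have hLE : ∀ x ∈ Ls j, x ∈ Ej := fun x hx => Ej.algebraMap_mem (⟨x, hx⟩ : Ls j)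
    have hFE : F.toSubfield ≤ Ej.toSubfield := fun x hx => hLE x (subset_adjoin k _ (Or.inl hx))
    have htrj : Tr (Ls j).toSubfield v := by
      refine Tr.map (σ j).symm.toRingEquiv (F := L0.toSubfield) (hmap' j) ?_
      have e : (σ j).symm.toRingEquiv v = v := by
        show (σ j).symm v = v
        exact (σ j).symm_apply_eq.mpr (hσv j).symm
      rw [e]
      exact fun p hp => transcendental_iff.mp hv p hp
    have htrE : Tr Ej.toSubfield v := by
      have h1 : Transcendental (Ls j) v := transcendental_iff.mpr fun p hp => htrj p hp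
      have h2 : Transcendental Ej v := h1.extendScalars _
      exact fun p hp => transcendental_iff.mp h2 p hp
    have hne : s i - s j ≠ 0 := sub_ne_zero.mpr fun e => hij (hinj e)
    have hsE : ∀ l, s l ∈ Ej.toSubfield := fun l => hFE (hs l)
    have huj : u + s j * v ∈ Ej.toSubfield := hLE _ (subset_adjoin k _ (Or.inr rfl))
    have htru : Tr Ej.toSubfield (u + s i * v) := fun p hp => by
      let q : Polynomial Ej.toSubfield := p.comp
        (C ⟨u + s j * v, huj⟩ + C ⟨s i - s j, sub_mem (hsE i) (hsE j)⟩ * X)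
      have hq : q = 0 := htrE q (by
        rw [eval₂_comp]
        simp only [eval₂_add, eval₂_mul, eval₂_C, eval₂_X]
        rw [show Ej.toSubfield.subtype ⟨u + s j * v, huj⟩ +
          Ej.toSubfield.subtype ⟨s i - s j, sub_mem (hsE i) (hsE j)⟩ * v = u + s i * v from by
            show u + s j * v + (s i - s j) * v = _; ring]
        exact hp)
      rcases comp_eq_zero_iff.mp hq with h | ⟨-, h⟩
      · exact h
      · exfalso
        have h1 := congrArg (fun r : Polynomial Ej.toSubfield => r.coeff 1) h
        simp at h1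
        exact hne (congrArg Subtype.val h1)
    have hscE : SC F.toSubfield Ej.toSubfield := fun x _ hx => hF x trivial hx
    have hsc' := hscE.adjoinSimple hFE (u + s i * v) htru
    let T := Subfield.closure ((Ej.toSubfield : Set Ω) ∪ {u + s i * v})
    have hET : Ej.toSubfield ≤ T := fun x hx => Subfield.subset_closure (Or.inl hx)
    have hvT : v ∈ T := by
      have : v = ((u + s i * v) - (u + s j * v)) / (s i - s j) := by field_simp; ring
      rw [this]
      exact div_mem (sub_mem (Subfield.subset_closure (Or.inr rfl)) (hET huj))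
        (hET (sub_mem (hsE i) (hsE j)))
    have hLT : ∀ x ∈ L, x ∈ T := by
      intro x hx
      have hTk : ∀ c : k, algebraMap k Ω c ∈ T := fun c => hET (hFE (F.algebraMap_mem c))
      have : L ≤ T.toIntermediateField hTk := adjoin_le_iff.mpr (by
        rintro y (hy | hy | hy)
        · exact hET (hFE hy)
        · rw [hy, show u = (u + s j * v) - s j * v by ring]
          exact sub_mem (hET huj) (mul_mem (hET (hsE j)) hvT)
        · rw [Set.mem_singleton_iff.mp hy]; exact hvT)
      exact this hx
    have haM : a ∈ M := mem_separableClosure_iff.mpr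
      (sep_iff.mp (ha.mono (F' := L.toSubfield) (hLs i)))
    have haG : (⟨a, haM⟩ : M) ∈ G j := hG ▸ subset_adjoin L _ ha
    have hGT : G j ≤ (T.toIntermediateField fun c => hLT _ c.2).comap M.val :=
      adjoin_le_iff.mpr fun b hb => hET (mem_separableClosure_iff.mpr (sep_iff.mp hb))
    have haT : a ∈ T := hGT haG
    have heq : (Ls i).toSubfield = Subfield.closure ((F.toSubfield : Set Ω) ∪ {u + s i * v}) := by
      refine le_antisymm ?_ (Subfield.closure_le.mpr fun x hx => subset_adjoin k _ hx)
      intro x hx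
      have : Ls i ≤ (Subfield.closure ((F.toSubfield : Set Ω) ∪ {u + s i * v})).toIntermediateField
          (fun c => Subfield.subset_closure (Or.inl (F.algebraMap_mem c))) :=
        adjoin_le_iff.mpr fun y hy => Subfield.subset_closure hy
      exact this hx
    exact heq.ge (hsc' a haT (ha.mono heq.le))
  intro e _ he
  have h1 : Sep (Ls i).toSubfield (σ i e) := he.map (σ i : Ω →+* Ω) (hmap i)
  have h2 := hmap' i _ (hsc _ h1)
  rwa [AlgEquiv.symm_apply_apply] at h2

end FieldBertiniLib
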